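import Groth.Agent.FBase64.ExtPow.Family
import Groth.Prelude.Def_KoszTw
import Mathlib.LinearAlgebra.ExteriorPower.Basis

/-!
Koszul complexes of a twisted cosection, read through the identification `Λ^p (F ⊗ L) = Λ^p F ⊗ L^p`
on small affine opens.
-/

set_option autoImplicit false
set_option backward.isDefEq.respectTransparency.types false

universe u

open CategoryTheory CategoryTheory.Limits AlgebraicGeometry TopologicalSpace Opposite exteriorPower

noncomputable section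

namespace Groth.Agent.KoszTw64

open Groth.Agent QC70 Props58.LocFree Om3 FBase64.ExtPowFamily

theorem dGen_smul {R M : Type u} [CommRing R] [AddCommGroup M] [Module R M] (φ ψ : M →ₗ[R] R) (a : R)
    (h : ∀ m, φ m = a * ψ m) (p : ℕ) (e : Fin (p + 1) → M) :
    KoszSh.dGen φ p e = a • KoszSh.dGen ψ p e := by
  simp only [KoszSh.dGen, Finset.smul_sum, smul_smul, h]
  exact Finset.sum_congr rfl fun i _ => by ring_nf

theorem map_dGen {R M N : Type u} [CommRing R] [AddCommGroup M] [Module R M] [AddCommGroup N] [Module R N]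
    (φ : N →ₗ[R] R) (g : M →ₗ[R] N) (p : ℕ) (e : Fin (p + 1) → M) :
    exteriorPower.map p g (KoszSh.dGen (φ.comp g) p e) = KoszSh.dGen φ p fun i => g (e i) := by
  simp only [KoszSh.dGen, map_sum, map_smul, exteriorPower.map_apply_ιMulti]
  rfl

variable {X : Scheme.{u}}

theorem tprod_const (L : X.Modules) {U : X.Opens} (l : Γ(L, U)) :
    ∀ q, KoszTw.tprod L q U (fun _ => l) = Amp73.epow l q
  | 0 => rfl
  | q + 1 => congrArg (fun z => Amp73.tm (CohB1.tensorPow L q) L z l) (tprod_const L l q)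

theorem unitorR_inv_app (F : X.Modules) (U : X.Opens) (m : Γ(F, U)) :
    (SecTwist.unitorR F).inv.app U m =
      SecTwist.tmul F (Coh.structureModule X) U m ((1 : Γ(X, U)) : Γ(Coh.structureModule X, U)) := by
  have h : (SecTwist.unitorR F).hom.app U
      (SecTwist.tmul F (Coh.structureModule X) U m ((1 : Γ(X, U)) : Γ(Coh.structureModule X, U))) = m :=
    (SecTwist.unitorR_tmul F U m 1).trans (one_smul Γ(X, U) m)
  conv_lhs => rw [← h]
  exact congrArg (fun φ : CohB1.tensorMod F (Coh.structureModule X) ⟶ CohB1.tensorMod F (Coh.structureModule X) =>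
    φ.app U _) (SecTwist.unitorR F).hom_inv_id

theorem app_fun {L : X.Modules} (lam : Coh.structureModule X ⟶ L) (U : X.Opens) (c : Γ(X, U)) :
    lam.app U (c : Γ(Coh.structureModule X, U)) =
      c • lam.app U ((1 : Γ(X, U)) : Γ(Coh.structureModule X, U)) :=
  (congrArg (lam.app U) (mul_one c).symm).trans (Scheme.Modules.Hom.app_smul lam c _)

theorem app_inj {M N : X.Modules} (f : M ⟶ N) [Mono f] (U : X.Opens) (x : Γ(M, U)) (h : f.app U x = 0) : x = 0 :=
  QC70.app_injective_of_mono f U (h.trans (map_zero _).symm)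

/-- Morphisms agreeing on a basis agree. -/
theorem hom_eq_zero {M N : X.Modules} (φ : M ⟶ N) (P : X.affineOpens → Prop)
    (hP : ∀ (x : X) (U : X.Opens), x ∈ U → ∃ W : X.affineOpens, P W ∧ x ∈ W.1 ∧ W.1 ≤ U)
    (h : ∀ W : X.affineOpens, P W → ∀ m : Γ(M, W.1), φ.app W.1 m = 0) : φ = 0 := by
  ext U m
  refine section_ext N _ _ fun p hp => ?_
  obtain ⟨W, hW, hpW, hle⟩ := hP p U hp
  refine ⟨W.1, hle, hpW, ?_⟩
  show res N hle (φ.app U m) = res N hle 0
  rw [← QC70.app_res, h W hW]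
  exact (map_zero _).symm

variable (F L : X.Modules)

/-- The small affine opens: `F` is free and `L` is framed. -/
def Good (W : X.affineOpens) : Prop :=
  Module.Free Γ(X, W.1) Γ(F, W.1) ∧ ∃ l : Γ(L, W.1), Gen L W.1 l

theorem exists_good (hF : FlatMod.IsFinLocFree F) (hL : PicF.IsInvertible L) (x : X) (U : X.Opens) (hx : x ∈ U) :
    ∃ W : X.affineOpens, Good F L W ∧ x ∈ W.1 ∧ W.1 ≤ U := by
  obtain ⟨U₁, n, hU₁, ⟨i⟩⟩ := hF x
  obtain ⟨b, hb⟩ := exists_stalkBasis_of_iso i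
  obtain ⟨U₂, hU₂, l, hl⟩ := Var76.LineBundle.exists_frame (Mero90.isFinLocFreeOfRank_of_isInvertible hL) x
  obtain ⟨W, hW, hxW, hle⟩ :=
    exists_isAffineOpen_mem_and_subset (show x ∈ U ⊓ U₁ ⊓ U₂ from ⟨⟨hx, hU₁⟩, hU₂⟩)
  have h₁ : W ≤ U₁ := fun y hy => (hle hy).1.2
  have h₂ : W ≤ U₂ := fun y hy => (hle hy).2
  refine ⟨⟨W, hW⟩, ⟨?_, res L h₂ l, hl W h₂⟩, hxW, fun y hy => (hle hy).1.1⟩
  refine Module.Free.of_basis (Module.Basis.ofEquivFun (LinearEquiv.ofBijective
    (Fintype.linearCombination Γ(X, W) fun j => res F h₁ (b j)) ?_).symm)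
  refine (congrArg Function.Bijective (funext fun a => ?_)).mp (hb.bijective h₁)
  simp [Fintype.linearCombination_apply]

variable {F L} {s : F ⟶ Coh.structureModule X} {lam : Coh.structureModule X ⟶ L}
  {t : CohB1.tensorMod F L ⟶ Coh.structureModule X}

set_option maxHeartbeats 800000 in
/-- The differentials of the two complexes in local coordinates. -/
theorem exists_local [F.IsQuasicoherent] [L.IsQuasicoherent] (htri : KoszTw.TwistTriangle s lam t)
    (C : KoszSh.Cx F s) (D : KoszSh.Cx (CohB1.tensorMod F L) t) (p : ℕ) {W : X.affineOpens}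
    {l : Γ(L, W.1)} (hl : Gen L W.1 l) :
    ∃ (a : Γ(X, W.1))
      (σ : ∀ r, ↥(⋀[Γ(X, W.1)]^r Γ(F, W.1)) ≃ₗ[Γ(X, W.1)] Γ(D.K.X r, W.1))
      (K : ↥(⋀[Γ(X, W.1)]^(p + 1) Γ(F, W.1)) →ₗ[Γ(X, W.1)] ↥(⋀[Γ(X, W.1)]^p Γ(F, W.1))),
      lam.app W.1 ((1 : Γ(X, W.1)) : Γ(Coh.structureModule X, W.1)) = a • l ∧
      (∀ z, (D.K.d (p + 1) p).app W.1 (σ (p + 1) z) = σ p (K z)) ∧
      (∀ z, (C.K.d (p + 1) p).app W.1 ((C.loc (p + 1) W).symm z) = (C.loc p W).symm (a • K z)) ∧
      ∀ (r : ℕ) (θ : KoszTw.CxDecData C D r) (z : ↥(⋀[Γ(X, W.1)]^r Γ(F, W.1))),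
        θ.iso.hom.app W.1 (σ r z) =
          Amp73.tm (C.K.X r) (CohB1.tensorPow L r) ((C.loc r W).symm z) (Amp73.epow l r) := by
  obtain ⟨a, ha⟩ := hl.2 (lam.app W.1 ((1 : Γ(X, W.1)) : Γ(Coh.structureModule X, W.1)))
  have hQT : (CohB1.tensorMod F L).IsQuasicoherent := QCTens72.isQuasicoherent_tensorMod _ _
  obtain ⟨eF, heF⟩ := exists_tm_right (G := F) W.2 hl
  let em : ∀ r, ↥(⋀[Γ(X, W.1)]^r Γ(F, W.1)) ≃ₗ[Γ(X, W.1)] ↥(⋀[Γ(X, W.1)]^r Γ(CohB1.tensorMod F L, W.1)) :=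
    fun r => LinearEquiv.ofLinearMap (exteriorPower.map r eF.toLinearMap) (exteriorPower.map r eF.symm.toLinearMap)
      (by rw [← exteriorPower.map_comp, LinearEquiv.comp_symm, exteriorPower.map_id])
      (by rw [← exteriorPower.map_comp, LinearEquiv.symm_comp, exteriorPower.map_id])
  let σ := fun r => (em r).trans (D.loc r W).symm
  have hs : ∀ f : Γ(F, W.1), KoszSh.secForm s W.1 f = a * ((KoszSh.secForm t W.1).comp eF.toLinearMap) f := by
    intro f
    refine hl.1 ?_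
    show KoszSh.secForm s W.1 f • l = (a * KoszSh.secForm t W.1 (eF f)) • l
    refine (htri W.1 f l).symm.trans ?_
    rw [mul_comm, mul_smul, show a • l = _ from ha]
    refine Eq.trans ?_ (app_fun lam W.1 _)
    exact congrArg (fun z => lam.app W.1 (t.app W.1 z)) (heF f).symm
  let K := (σ p).symm.toLinearMap ∘ₗ appLinear (D.K.d (p + 1) p) W.1 ∘ₗ (σ (p + 1)).toLinearMap
  have hK : ∀ e, K (ιMulti Γ(X, W.1) (p + 1) e) =
      KoszSh.dGen ((KoszSh.secForm t W.1).comp eF.toLinearMap) p e := by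
    intro e
    show (σ p).symm ((D.K.d (p + 1) p).app W.1 (σ (p + 1) _)) = _
    rw [LinearEquiv.symm_apply_eq]
    show _ = (D.loc p W).symm (exteriorPower.map p eF.toLinearMap _)
    rw [map_dGen, ← D.rule]
    exact congrArg (fun z => (D.K.d (p + 1) p).app W.1 ((D.loc (p + 1) W).symm z))
      (exteriorPower.map_apply_ιMulti _ e)
  refine ⟨a, σ, K, ha.symm, fun z => ((σ p).apply_symm_apply _).symm, fun z => ?_, fun r θ z => ?_⟩
  · refine LinearMap.congr_fun (show (appLinear (C.K.d (p + 1) p) W.1).comp (C.loc (p + 1) W).symm.toLinearMap =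
      (C.loc p W).symm.toLinearMap.comp (a • K) from exteriorPower.linearMap_ext (AlternatingMap.ext fun e => ?_)) z
    show (C.K.d (p + 1) p).app W.1 ((C.loc (p + 1) W).symm (ιMulti _ (p + 1) e)) =
      (C.loc p W).symm (a • K (ιMulti _ (p + 1) e))
    rw [C.rule, hK, ← dGen_smul _ _ a hs]
  · have hQC := isQuasicoherent_of_isExtPow (C.isExtPow r)
    have hQP : (CohB1.tensorPow L r).IsQuasicoherent := FBase64.ExtPowFamily.isQuasicoherent_tensorPow L r
    obtain ⟨eC, heC⟩ := exists_tm_right (G := C.K.X r) W.2 (gen_epow W.2 hl r)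
    rw [← heC]
    refine LinearMap.congr_fun (show (appLinear θ.iso.hom W.1).comp (σ r).toLinearMap =
      eC.toLinearMap.comp (C.loc r W).symm.toLinearMap from exteriorPower.linearMap_ext (AlternatingMap.ext fun e => ?_)) z
    show θ.iso.hom.app W.1 ((D.loc r W).symm (exteriorPower.map r eF.toLinearMap (ιMulti _ r e))) =
      eC ((C.loc r W).symm (ιMulti _ r e))
    rw [exteriorPower.map_apply_ιMulti, heC, show (eF.toLinearMap ∘ e) = fun i => SecTwist.tmul F L W.1 (e i) l from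
      funext fun i => heF (e i)]
    exact (θ.rule W e fun _ => l).trans (congrArg _ (tprod_const L l r))

set_option maxHeartbeats 800000 in
/-- The kernels agree. -/
theorem kernel_eq (hF : FlatMod.IsFinLocFree F) (hL : PicF.IsInvertible L) [Mono lam]
    (htri : KoszTw.TwistTriangle s lam t) (C : KoszSh.Cx F s) (D : KoszSh.Cx (CohB1.tensorMod F L) t) (q : ℕ)
    (θ : KoszTw.CxDecData C D (q + 1)) :
    Limits.kernelSubobject (θ.iso.hom ≫ KoszTw.tensorMap (C.K.d (q + 1) q) (𝟙 (CohB1.tensorPow L (q + 1)))) =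
      Limits.kernelSubobject (D.K.d (q + 1) q) := by
  have := Props58.LocFree.isQuasicoherent_of_isFinLocFree hF
  have : L.IsQuasicoherent := Props58.LocFree.isQuasicoherent_of_isFinLocFree fun x => by
    obtain ⟨U, hx, h⟩ := Mero90.isFinLocFreeOfRank_of_isInvertible hL x
    exact ⟨U, 1, hx, h⟩
  have hQC := isQuasicoherent_of_isExtPow (C.isExtPow q)
  have hQP : (CohB1.tensorPow L (q + 1)).IsQuasicoherent := FBase64.ExtPowFamily.isQuasicoherent_tensorPow L _
  have key : ∀ W : X.affineOpens, Good F L W → ∀ y : Γ(D.K.X (q + 1), W.1),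
      (θ.iso.hom ≫ KoszTw.tensorMap (C.K.d (q + 1) q) (𝟙 (CohB1.tensorPow L (q + 1)))).app W.1 y = 0 ↔
        (D.K.d (q + 1) q).app W.1 y = 0 := by
    rintro W ⟨hfree, l, hl⟩ y
    obtain ⟨a, σ, K, ha, hD, hC, hθ⟩ := exists_local htri C D q hl
    obtain ⟨eC, heC⟩ := exists_tm_right (G := C.K.X q) W.2 (gen_epow W.2 hl (q + 1))
    obtain ⟨z, rfl⟩ := (σ (q + 1)).surjective y
    rw [hD, LinearEquiv.map_eq_zero_iff]
    show (KoszTw.tensorMap (C.K.d (q + 1) q) (𝟙 (CohB1.tensorPow L (q + 1)))).app W.1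
      (θ.iso.hom.app W.1 (σ (q + 1) z)) = 0 ↔ _
    rw [hθ]
    erw [KoszTw.tensorMap_tmul]
    rw [hC]
    show Amp73.tm _ _ ((C.loc q W).symm (a • K z)) (Amp73.epow l (q + 1)) = 0 ↔ _
    rw [← heC, LinearEquiv.map_eq_zero_iff, LinearEquiv.map_eq_zero_iff]
    refine ⟨fun h => ?_, fun h => by rw [h, smul_zero]⟩
    let b := Module.Free.chooseBasis Γ(X, W.1) ↥(⋀[Γ(X, W.1)]^q Γ(F, W.1))
    refine b.repr.injective (Finsupp.ext fun i => ?_)
    rw [map_zero]
    have h0 : a * b.repr (K z) i = 0 := by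
      have := congrArg (fun v => b.repr v i) h
      simpa using this
    refine app_inj lam W.1 (b.repr (K z) i : Γ(Coh.structureModule X, W.1)) ?_
    rw [app_fun, ha, smul_smul, mul_comm, h0, zero_smul]
  refine le_antisymm (le_kernelSubobject _ _ ?_) (le_kernelSubobject _ _ ?_)
  · refine hom_eq_zero _ (Good F L) (exists_good F L hF hL) fun W hW m => ?_
    refine (key W hW _).1 ?_
    exact congrArg (fun φ : _ ⟶ CohB1.tensorMod (C.K.X q) (CohB1.tensorPow L (q + 1)) => φ.app W.1 m)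
      (kernelSubobject_arrow_comp _)
  · refine hom_eq_zero _ (Good F L) (exists_good F L hF hL) fun W hW m => ?_
    refine (key W hW _).2 ?_
    exact congrArg (fun φ : _ ⟶ D.K.X q => φ.app W.1 m) (kernelSubobject_arrow_comp _)

set_option maxHeartbeats 800000 in
/-- The images agree. -/
theorem image_eq (hF : FlatMod.IsFinLocFree F) (hL : PicF.IsInvertible L)
    (htri : KoszTw.TwistTriangle s lam t) (C : KoszSh.Cx F s) (D : KoszSh.Cx (CohB1.tensorMod F L) t) (q : ℕ)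
    (θ : KoszTw.CxDecData C D q) :
    Limits.imageSubobject (KoszTw.tensorMap (KoszTw.tensorMap (C.K.d (q + 1) q) (𝟙 (CohB1.tensorPow L q))) (𝟙 L)) =
      Limits.imageSubobject ((SecTwist.unitorR (D.K.X (q + 1))).inv ≫ KoszTw.tensorMap (D.K.d (q + 1) q) lam ≫
        KoszTw.tensorMap θ.iso.hom (𝟙 L)) := by
  have := Props58.LocFree.isQuasicoherent_of_isFinLocFree hF
  have : L.IsQuasicoherent := Props58.LocFree.isQuasicoherent_of_isFinLocFree fun x => by
    obtain ⟨U, hx, h⟩ := Mero90.isFinLocFreeOfRank_of_isInvertible hL x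
    exact ⟨U, 1, hx, h⟩
  have hQC := isQuasicoherent_of_isExtPow (C.isExtPow (q + 1))
  have hQP : (CohB1.tensorPow L q).IsQuasicoherent := FBase64.ExtPowFamily.isQuasicoherent_tensorPow L q
  have hQG : (CohB1.tensorMod (C.K.X (q + 1)) (CohB1.tensorPow L q)).IsQuasicoherent :=
    QCTens72.isQuasicoherent_tensorMod _ _
  let f := KoszTw.tensorMap (KoszTw.tensorMap (C.K.d (q + 1) q) (𝟙 (CohB1.tensorPow L q))) (𝟙 L)
  let g := (SecTwist.unitorR (D.K.X (q + 1))).inv ≫ KoszTw.tensorMap (D.K.d (q + 1) q) lam ≫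
    KoszTw.tensorMap θ.iso.hom (𝟙 L)
  have key : ∀ W : X.affineOpens, Good F L W →
      ∃ (ρ : ↥(⋀[Γ(X, W.1)]^(q + 1) Γ(F, W.1)) →
          Γ(CohB1.tensorMod (CohB1.tensorMod (C.K.X (q + 1)) (CohB1.tensorPow L q)) L, W.1))
        (σ : ↥(⋀[Γ(X, W.1)]^(q + 1) Γ(F, W.1)) → Γ(D.K.X (q + 1), W.1)),
        Function.Surjective ρ ∧ Function.Surjective σ ∧ ∀ z, g.app W.1 (σ z) = f.app W.1 (ρ z) := by
    rintro W ⟨-, l, hl⟩
    obtain ⟨a, σ, K, ha, hD, hC, hθ⟩ := exists_local htri C D q hl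
    obtain ⟨eC, heC⟩ := exists_tm_right (G := C.K.X (q + 1)) W.2 (gen_epow W.2 hl q)
    obtain ⟨eL, heL⟩ := exists_tm_right (G := CohB1.tensorMod (C.K.X (q + 1)) (CohB1.tensorPow L q)) W.2 hl
    refine ⟨_, _, (((C.loc (q + 1) W).symm.trans eC).trans eL).surjective, (σ (q + 1)).surjective, fun z => ?_⟩
    show (KoszTw.tensorMap θ.iso.hom (𝟙 L)).app W.1 ((KoszTw.tensorMap (D.K.d (q + 1) q) lam).app W.1
        ((SecTwist.unitorR (D.K.X (q + 1))).inv.app W.1 (σ (q + 1) z))) =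
      (KoszTw.tensorMap (KoszTw.tensorMap (C.K.d (q + 1) q) (𝟙 (CohB1.tensorPow L q))) (𝟙 L)).app W.1
        (eL (eC ((C.loc (q + 1) W).symm z)))
    rw [unitorR_inv_app, heL, heC]
    erw [KoszTw.tensorMap_tmul, KoszTw.tensorMap_tmul, KoszTw.tensorMap_tmul, KoszTw.tensorMap_tmul]
    rw [hD, hθ, hC, ha]
    show Amp73.tm _ _ (Amp73.tm _ _ _ _) (a • l) = Amp73.tm _ _ (Amp73.tm _ _ _ _) l
    rw [map_smul]
    erw [Amp73.tm_smul_left, Amp73.tm_smul_left, Amp73.tm_smul_right]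
    rfl
  have hle : ∀ {A B T : X.Modules} (f : A ⟶ T) (g : B ⟶ T),
      (∀ W : X.affineOpens, Good F L W → ∀ y, ∃ x, g.app W.1 y = f.app W.1 x) →
        Limits.imageSubobject g ≤ Limits.imageSubobject f := by
    intro A B T f g h
    have h0 : g ≫ cokernel.π f = 0 := hom_eq_zero _ (Good F L) (exists_good F L hF hL) fun W hW y => by
      obtain ⟨x, hx⟩ := h W hW y
      show (cokernel.π f).app W.1 (g.app W.1 y) = 0
      rw [hx]
      exact congrArg (fun φ : A ⟶ cokernel f => φ.app W.1 x) (cokernel.condition f)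
    refine imageSubobject_le g (kernel.lift (cokernel.π f) g h0 ≫ (Abelian.imageIsoImage f).hom ≫
      (imageSubobjectIso f).inv) ?_
    rw [Category.assoc, Category.assoc, imageSubobject_arrow', Abelian.imageIsoImage_hom_comp_image_ι,
      kernel.lift_ι]
  refine le_antisymm (hle _ _ fun W hW y => ?_) (hle _ _ fun W hW y => ?_)
  · obtain ⟨ρ, σ, hρ, -, h⟩ := key W hW
    obtain ⟨z, rfl⟩ := hρ y
    exact ⟨σ z, (h z).symm⟩
  · obtain ⟨ρ, σ, -, hσ, h⟩ := key W hW
    obtain ⟨z, rfl⟩ := hσ y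
    exact ⟨ρ z, h z⟩

end Groth.Agent.KoszTw64
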